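import Groth.Agent.TwistFlat.Converse
import Groth.Agent.H23.TensorDesc
import Groth.Agent.RelTildeX.SheafCrit

/-!
# A pairing with an invertible module inducing an isomorphism out of the tensor product
-/

universe u

open CategoryTheory AlgebraicGeometry TopologicalSpace Opposite

set_option backward.isDefEq.respectTransparency false
set_option backward.isDefEq.respectTransparency.types false
set_option linter.style.haveILetI false

namespace Groth.Agent.InvX

open Groth.Agent.QCoh

variable {X : Scheme.{u}} {M N P : X.Modules}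

theorem isIso_desc_of_frames (hM : Coh.IsQCoh M) (hN : Coh.IsQCoh N) (β : H23.TensorDesc.Bilin M N P)
    (h : ∀ (V : X.Opens) (x : X), x ∈ V → ∃ (W : X.Opens) (e : Γ(N, W)),
      W ≤ V ∧ x ∈ W ∧ IsAffineOpen W ∧ IsFrame e ∧ Function.Bijective (fun s : Γ(M, W) => β.b W s e)) :
    IsIso (H23.TensorDesc.desc β) := by
  have key : ∀ (V : X.Opens) (x : X), x ∈ V → ∃ (W : X.Opens),
      W ≤ V ∧ x ∈ W ∧ Function.Bijective ((H23.TensorDesc.desc β).app W) := by
    intro V x hx
    obtain ⟨W, e, hWV, hxW, hW, he, hb⟩ := h V x hx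
    refine ⟨W, hWV, hxW, ?_⟩
    refine (Function.Bijective.of_comp_iff _ (TwistFlat.bijective_tmul_frame hM hN hW he)).1 ?_
    have e1 : ((H23.TensorDesc.desc β).app W) ∘ (fun s : Γ(M, W) => tmul s e) = fun s => β.b W s e :=
      funext fun s => H23.TensorDesc.desc_tmul β W s e
    rw [e1]
    exact hb
  haveI : Mono (H23.TensorDesc.desc β) := by
    refine mono_of_app_injective _ fun U => (injective_iff_map_eq_zero _).2 fun s hs => ?_
    refine eq_zero_of_locally U s fun x hx => ?_
    obtain ⟨W, hWU, hxW, hb⟩ := key U x hx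
    refine ⟨W, homOfLE hWU, hxW, hb.1 ?_⟩
    rw [map_app_comm, hs, map_zero, map_zero]
  haveI : Epi (H23.TensorDesc.desc β) := by
    refine RelTildeX.epi_of_locally _ fun U s x hx => ?_
    obtain ⟨W, hWU, hxW, hb⟩ := key U x hx
    obtain ⟨t, ht⟩ := hb.2 (P.presheaf.map (homOfLE hWU).op s)
    exact ⟨W, hWU, hxW, t, ht⟩
  exact isIso_of_mono_of_epi _

end Groth.Agent.InvX
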